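import Cfsg.Agent.Lib.FusionP3.Prime.PPower

/-!
Invariant subsystems stay invariant in every saturated system in between; composition of normality.
-/

set_option autoImplicit false
set_option linter.style.haveILetI false
set_option linter.unusedSectionVars false

namespace Cfsg.Agent.Lib.FS.PSolvableRed

open Cfsg Cfsg.FusionSystem Cfsg.Agent.Lib.FS
open Cfsg.Agent.Lib.FusionP3
open Cfsg.Agent.Lib.FusionP3.Prime

variable {Ω : Type*} [Group Ω] {S : Subgroup Ω} [Finite S] {p : ℕ} [Fact p.Prime] {F : FusionSystem S}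
variable {T : Subgroup Ω} {E : FusionSystem T}

theorem base_le {U : Subgroup Ω} {A : FusionSystem U} (h : A.IsSubsystemOf F) : U ≤ S :=
  src_le (h U (subtype_mem A le_rfl))

theorem finite_base {U : Subgroup Ω} {A : FusionSystem U} (h : A.IsSubsystemOf F) : Finite U :=
  finite_sub (base_le h)

theorem le_normalizer_closed (hT : F.StronglyClosed T) {g : Ω} (hg : g ∈ S) :
    g ∈ Subgroup.normalizer (T : Set Ω) :=
  haveI := finite_sub hT.1
  mem_normalizer_of_conj_mem fun _ hx => StronglyClosed.conj_mem_of_stronglyClosed hT hg hx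

theorem fullyNormalized_closed (hT : F.StronglyClosed T) : F.IsFullyNormalized T :=
  haveI := finite_sub hT.1
  ⟨hT.1, fun Q ⟨φ, hφ, hr⟩ => by
    rw [← hr, range_eq_of_mem hφ (fun x => StronglyClosed.apply_mem_of_stronglyClosed hT hφ x x.2) le_rfl]⟩

theorem restrict_closed {U : Subgroup Ω} {A : FusionSystem U} (h : A.IsSubsystemOf F)
    (hT : F.StronglyClosed T) (hTU : T ≤ U) : A.StronglyClosed T :=
  ⟨hTU, fun R hR φ hφ => hT.2 R hR φ (h R hφ)⟩

/-- Automizers of an invariant subsystem are normal in those of the system. -/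
theorem conj_mem_aut (hE : E.IsInvariantIn F) {W : Subgroup Ω} (hW : W ≤ T) {g a : MulAut W}
    (hg : g ∈ F.autGroup W) (ha : a ∈ E.autGroup W) : g * a * g⁻¹ ∈ E.autGroup W := by
  obtain ⟨ψ, hψ, hr, he⟩ := exists_hom_of_aut (hW.trans hE.2.1.1) hg
  have hg' : homEquiv hψ hr = g := MulEquiv.ext fun x => Subtype.ext (he x)
  have h1 := Normality.congr_mem_aut hE hW hψ hr ha
  rwa [hg', show MulAut.congr g a = g * a * g⁻¹ from MulEquiv.ext fun _ => rfl] at h1

/-- The elements of `S` inducing members of `H` on a strongly closed subgroup form a strongly closed subgroup. -/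
theorem stronglyClosed_preimageAut (hS : IsPGroup p S) (hF : F.IsSaturated p) (hT : F.StronglyClosed T)
    {H : Subgroup (MulAut T)} (hn : ∀ a ∈ F.autGroup T, ∀ h ∈ H, a * h * a⁻¹ ∈ H) (hInn : Inn T ≤ H) :
    F.StronglyClosed (Induction.preimageAut S T H) := by
  haveI := finite_sub hT.1
  refine ⟨(Induction.preimageAut_le T H).trans (normalizerIn_le T), fun R hR φ hφ x => ?_⟩
  obtain ⟨ψ, hψ, hc⟩ := StronglyClosed.hasLift hS hF hT hφ
  obtain ⟨ψT, hψT, hψTe⟩ := exists_restrict hψ (le_sup_right : T ≤ R ⊔ T)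
  have hr : ψT.range = T :=
    range_eq_of_mem hψT (fun t => hT.2 T le_rfl _ hψT t) le_rfl
  set γ := homEquiv hψT hr with hγ
  obtain ⟨-, w, hw, hwe⟩ := hR x.2
  have h1 : ψ (Subgroup.inclusion le_sup_left x) ∈ Induction.preimageAut S T H := by
    have hS' := apply_mem hψ (Subgroup.inclusion le_sup_left x)
    refine ⟨⟨hS', le_normalizer_closed hT hS'⟩, γ * w * γ⁻¹, hn γ (homEquiv_mem_autGroup hψT hr) w hw, fun t => ?_⟩
    obtain ⟨s, rfl⟩ := γ.surjective t
    rw [MulAut.mul_apply, MulAut.mul_apply, MulAut.inv_apply_self]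
    show ψT (w s) = _ * ψT s * _
    rw [hψTe, hψTe, ← map_inv, ← map_mul, ← map_mul]
    exact congrArg ψ (Subtype.ext (hwe s))
  have h2 := mul_mem h1 (inv_mem (Induction.le_preimageAut hT.1 hInn (hc x)))
  simpa [mul_assoc] using h2

/-- An invariant subsystem satisfies the Frattini condition in every saturated system containing it. -/
theorem dec_of_invariant (hS : IsPGroup p S) (hE : E.IsInvariantIn F) {U : Subgroup Ω} {A : FusionSystem U}
    (hA : A.IsSubsystemOf F) (hAs : A.IsSaturated p) (hTU : T ≤ U)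
    {P : Subgroup Ω} (hP : P ≤ T) {φ : P →* Ω} (hφ : φ ∈ A.Hom P) : Dec (A.autGroup T) E φ := by
  have hUS : U ≤ S := base_le hA
  haveI := finite_sub hUS
  have hUp : IsPGroup p U := hS.to_le hUS
  have hcl := restrict_closed hA hE.2.1 hTU
  have hinv : ∀ α ∈ A.autGroup T, Inv E α := fun α hα R hR χ hχ =>
    hE.2.2.1 R hR χ hχ α (GT.autGroup_mono hA hTU hα)
  set D := PPower.decSystem hcl E hinv with hD
  have key : φ ∈ D.Hom P := by
    refine Induction.hom_induction hUp hAs (M := fun P φ => φ ∈ D.Hom P) ?_ ?_ ?_ P φ hφ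
    · intro P Q φ ψ χ _ _ h hχ hp hq
      exact hom_congr (D.comp_mem hp hq h) hχ
    · intro P Q φ ψ h _ hφψ hq
      exact mem_of_restrict hq h hφψ
    intro R hRn _ _ a ha big
    have hRU : R ≤ U := hRn.1
    haveI := finite_sub hRU
    haveI := finite_sub hTU
    obtain ⟨θ, hθ, -, hθe⟩ := exists_hom_of_aut hRU ha
    by_cases hTR : T ≤ R
    · refine ⟨(mem_autGroup hRU).1 ha, fun V hV hle => ?_⟩
      obtain ⟨θT, hθT, hθTe⟩ := exists_restrict hθ hTR
      have hr : θT.range = T := range_eq_of_mem hθT (fun t => hcl.2 T le_rfl _ hθT t) le_rfl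
      refine Dec.of_aut (α := homEquiv hθT hr) (homEquiv_mem_autGroup hθT hr) hV fun x => ?_
      show ((a ⟨(x : Ω), hle x.2⟩ : R) : Ω) = θT ⟨(x : Ω), hV x.2⟩
      rw [hθTe, hθe]
    set W := R ⊓ T with hW
    have hWR : W ≤ R := inf_le_left
    have hWT : W ≤ T := inf_le_right
    set X := A.autGroup R with hX
    have hpres : X ≤ GT.preserve W R := by
      intro β hβ x
      obtain ⟨χ, hχ, -, hχe⟩ := exists_hom_of_aut hRU hβ
      refine ⟨fun hx => ⟨(β x).2, hχe x ▸ StronglyClosed.apply_mem_of_stronglyClosed hcl hχ x hx.2⟩,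
        fun hx => ⟨x.2, mem_of_apply_stronglyClosed hcl hχ x (by rw [hχe]; exact hx.2)⟩⟩
    let r : X →* MulAut W := (GT.res hWR).comp (Subgroup.inclusion hpres)
    have hrA : ∀ β : X, r β ∈ F.autGroup W := fun β =>
      GT.autGroup_mono hA (hWR.trans hRU) (GT.res_mem_autGroup hWR hRU β.2)
    set K₀ : Subgroup X := (E.autGroup W).comap r with hK₀
    haveI hK₀n : K₀.Normal := ⟨fun k hk g => by
      rw [hK₀, Subgroup.mem_comap, map_mul, map_mul, map_inv]
      exact conj_mem_aut hE hWT (hrA g) hk⟩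
    set I : Subgroup X := (Inn R).subgroupOf X with hI
    haveI hIn : I.Normal := by
      refine ⟨fun n hn g => ?_⟩
      obtain ⟨q, hq⟩ := Subgroup.mem_subgroupOf.mp hn
      refine Subgroup.mem_subgroupOf.mpr ⟨g.1 q, ?_⟩
      rw [Subgroup.coe_mul, Subgroup.coe_mul, Subgroup.coe_inv, ← hq]
      exact MulEquiv.ext fun x => by simp [MulAut.mul_apply, MulAut.conj_apply]
    set K : Subgroup X := K₀ ⊔ I with hK
    obtain ⟨Rs, hRs⟩ := (fullyAutomized_of_fullyNormalized hUp hAs hRn).2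
    set W' : Subgroup (MulAut R) := ((Rs : Subgroup X) ⊓ K).map X.subtype with hW'
    have hW'S : W' ≤ autInducedBy U R := by
      rintro _ ⟨w, hw, rfl⟩
      exact Subgroup.mem_subgroupOf.mp (hRs ▸ hw.1)
    have hInn : Inn R ≤ W' := fun u hu =>
      ⟨⟨u, inn_le_autGroup A hRU hu⟩, ⟨hRs ▸ Subgroup.mem_subgroupOf.mpr (inn_le_autInducedBy hRU hu),
        Subgroup.mem_sup_right (Subgroup.mem_subgroupOf.mpr hu)⟩, rfl⟩
    -- an element of `T` normalizing `R` outside `R`
    have hnormT : ∀ u ∈ R, ∀ t ∈ T, u * t * u⁻¹ ∈ T := fun u hu t ht =>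
      StronglyClosed.conj_mem_of_stronglyClosed hcl (hRU hu) ht
    have hRT : R ⊔ T ≤ U := sup_le hRU hTU
    haveI := finite_sub hRT
    obtain ⟨g, hg, hgR⟩ := SetLike.exists_of_lt
      (Induction.lt_normalizerIn (hUp.to_le hRT) (left_lt_sup.mpr hTR))
    obtain ⟨u, hu, t, ht, rfl⟩ := StronglyClosed.exists_mul_of_mem_sup hnormT hg.1
    have htR : t ∉ R := fun h => hgR (mul_mem hu h)
    have htN : t ∈ Subgroup.normalizer (R : Set Ω) :=
      (Subgroup.mul_mem_cancel_left _ (Subgroup.le_normalizer hu)).mp hg.2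
    have hτS : (R.normalizerMonoidHom ⟨t, htN⟩ : MulAut R) ∈ autInducedBy U R :=
      mem_autInducedBy.mpr ⟨t, hTU ht, fun _ => rfl⟩
    set τ : X := ⟨R.normalizerMonoidHom ⟨t, htN⟩, autInducedBy_le_autGroup A hRU hτS⟩ with hτ
    have hτK : τ ∈ K₀ := by
      rw [hK₀, Subgroup.mem_comap]
      exact autInducedBy_le_autGroup E hWT (mem_autInducedBy.mpr ⟨t, ht, fun _ => rfl⟩)
    have hτW : (τ : MulAut R) ∈ W' :=
      ⟨τ, ⟨hRs ▸ Subgroup.mem_subgroupOf.mpr hτS, Subgroup.mem_sup_left hτK⟩, rfl⟩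
    have hbig : Nat.card R < Nat.card (Induction.preimageAut U R W') := by
      haveI := finite_sub ((Induction.preimageAut_le R W').trans (normalizerIn_le (S := U) R))
      refine lt_of_not_ge fun h => htR ?_
      rw [Subgroup.eq_of_le_of_card_ge (Induction.le_preimageAut hRU hInn) h]
      exact ⟨⟨hTU ht, htN⟩, τ, hτW, fun _ => rfl⟩
    have hKD : K ≤ (D.autGroup R).comap X.subtype := by
      refine sup_le (fun k hk => ?_) (fun k hk => inn_le_autGroup D hRU (Subgroup.mem_subgroupOf.mp hk))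
      refine (mem_autGroup hRU).2 ⟨(mem_autGroup hRU).1 k.2, fun V hV hle => ?_⟩
      obtain ⟨e, he, -, hee⟩ := exists_hom_of_aut hWT (Subgroup.mem_comap.1 hk)
      exact (Dec.of_mem he).restrict (le_inf hle hV) fun x => (hee ⟨(x : Ω), le_inf hle hV x.2⟩).symm
    have htop := StronglyClosed.normalizer_inf_sup_eq_top Rs K
    obtain ⟨n, hn, k, hk, hnk⟩ := Subgroup.mem_sup_of_normal_right.mp
      (show (⟨a, ha⟩ : X) ∈ Subgroup.normalizer (((Rs : Subgroup X) ⊓ K : Subgroup X) : Set X) ⊔ K by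
        rw [htop]; exact Subgroup.mem_top _)
    obtain ⟨ψ, hψ, hψe⟩ := Induction.exists_extend_preimage (receptive_of_fullyNormalized hUp hAs hRn) hW'S n.2 (by
      rintro _ ⟨w, hw, rfl⟩
      exact ⟨n * w * n⁻¹, (Subgroup.mem_normalizer_iff.mp hn w).mp hw, rfl⟩)
    have hnD : (n : MulAut R) ∈ D.autGroup R := (mem_autGroup hRU).2 (mem_of_restrict (big _ hbig ψ hψ)
      (Induction.le_preimageAut hRU hInn)
      fun x => (hψe x x.2 (Induction.le_preimageAut hRU hInn x.2)).symm)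
    have haD : a ∈ D.autGroup R := by
      have h1 : (n : MulAut R) * k = a := congrArg Subtype.val hnk
      exact h1 ▸ mul_mem hnD (hKD hk)
    exact (mem_autGroup hRU).1 haD
  exact (key.2 P hP le_rfl).congr fun _ => rfl

/-- An invariant subsystem is invariant in every saturated system in between. -/
theorem isInvariantIn_of_le (hS : IsPGroup p S) (hE : E.IsInvariantIn F) {U : Subgroup Ω} {A : FusionSystem U}
    (hA : A.IsSubsystemOf F) (hAs : A.IsSaturated p) (hTU : T ≤ U) (hEA : E.IsSubsystemOf A) :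
    E.IsInvariantIn A :=
  ⟨hEA, restrict_closed hA hE.2.1 hTU,
    fun P hP φ hφ α hα => hE.2.2.1 P hP φ hφ α (GT.autGroup_mono hA hTU hα),
    fun _ hP _ hφ => dec_of_invariant hS hE hA hAs hTU hP hφ⟩

/-- Every system is invariant under its own automorphisms of the base. -/
theorem inv_self {α : MulAut S} (hα : α ∈ F.autGroup S) : Inv F α := by
  intro P hP φ hφ
  have hres := autRes_mem hα hP
  obtain ⟨η, hη, -, hηl, -⟩ := exists_inv hres (autRes_range α hP)
  obtain ⟨A', hA', -, hA'e⟩ := exists_hom_of_aut le_rfl hα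
  have hm : ∀ y : img α P, η y ∈ P := by
    rintro ⟨_, z, hz, rfl⟩
    have h1 := hηl ⟨z, hz⟩ (apply_mem_img α hP ⟨z, hz⟩)
    exact (congrArg (· ∈ P) h1).mpr hz
  obtain ⟨ζ, hζ, hζe⟩ := exists_comp hη hφ hm
  obtain ⟨χ, hχ, hχe⟩ := exists_comp hζ hA' fun y => apply_mem hζ y
  refine ⟨χ, hχ, fun x hφx hαx => ?_⟩
  rw [hχe, hA'e]
  refine congrArg (fun z => ((α z : S) : Ω)) (Subtype.ext ?_)
  show ζ _ = φ x
  rw [hζe]
  exact congrArg φ (Subtype.ext (hηl x (apply_mem_img α hP x)))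

theorem invariant_self (F : FusionSystem S) : F.IsInvariantIn F :=
  ⟨fun _ => subset_rfl, ⟨le_rfl, fun _ _ _ hφ x => apply_mem hφ x⟩,
    fun P hP φ hφ _ hα => inv_self hα P hP φ hφ,
    fun _ _ _ hφ => Dec.of_mem (G := F.autGroup S) hφ⟩

theorem weaklyNormal_self (hF : F.IsSaturated p) : F.IsWeaklyNormalIn F p := ⟨hF, hF, invariant_self F⟩

/-- A weakly normal subsystem over a subgroup containing its centralizer is normal. -/
theorem isNormalIn_of_centralizer {V : Subgroup Ω} {B : FusionSystem V} (hB : B.IsWeaklyNormalIn F p)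
    (hC : centralizerIn S V ≤ V) : B.IsNormalIn F p := by
  refine ⟨hB, fun α hα => ?_⟩
  have hVS : V ≤ S := hB.2.2.2.1.1
  obtain ⟨φ, hφ, -, hφe⟩ := exists_hom_of_aut hVS (GT.autGroup_mono hB.2.2.1 le_rfl hα)
  have hW : V ⊔ centralizerIn S V ≤ V := sup_le le_rfl hC
  haveI := finite_sub (hW.trans hVS)
  obtain ⟨ψ, hψ, hψe⟩ := exists_restrict hφ hW
  have hr : ψ.range = V ⊔ centralizerIn S V := range_eq_of_mem hψ (fun x => Subgroup.mem_sup_left (by
    rw [hψe, hφe]; exact (α _).2)) le_rfl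
  refine ⟨homEquiv hψ hr, homEquiv_mem_autGroup hψ hr, fun x => ?_, fun c hc => ?_⟩
  · rw [homEquiv_coe, hψe, hφe]
    rfl
  · rw [homEquiv_coe, hψe, hφe]
    refine ⟨V.mul_mem (V.inv_mem (hC hc)) (α _).2, ?_⟩
    refine (Subgroup.centralizer (V : Set Ω)).mul_mem ((Subgroup.centralizer (V : Set Ω)).inv_mem hc.2)
      fun y hy => ?_
    obtain ⟨z, hz⟩ := α.surjective ⟨y, hy⟩
    have h1 : y = ((α z : V) : Ω) := congrArg Subtype.val hz.symm
    rw [h1, ← Subgroup.coe_mul, ← Subgroup.coe_mul, ← map_mul, ← map_mul]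
    exact congrArg (fun w => ((α w : V) : Ω)) (Subtype.ext (hc.2 (z : Ω) z.2))

/-- Composition of normality. -/
theorem isNormalIn_comp {U : Subgroup Ω} {A : FusionSystem U} (hA : A.IsNormalIn F p) {V : Subgroup Ω}
    {B : FusionSystem V} (hBs : B.IsSaturated p) (hBA : B.IsInvariantIn A) (hV : F.StronglyClosed V)
    (hC : centralizerIn S V ≤ V) (hinv : ∀ α ∈ F.autGroup V, Inv B α) : B.IsNormalIn F p := by
  have hAi := hA.1.2.2
  have hVU : V ≤ U := hBA.2.1.1
  haveI := finite_sub hV.1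
  refine isNormalIn_of_centralizer ⟨hBs, hA.1.2.1, fun P φ hφ => hAi.1 P (hBA.1 P hφ), hV,
    fun P hP φ hφ α hα => hinv α hα P hP φ hφ, fun P hP φ hφ => ?_⟩ hC
  obtain ⟨α, hα, e, he, hx⟩ := hAi.2.2.2 P (hP.trans hVU) φ hφ
  obtain ⟨β, hβ, e₀, he₀, hx'⟩ := hBA.2.2.2 P hP e he
  obtain ⟨a, ha, -, hae⟩ := exists_hom_of_aut hAi.2.1.1 hα
  obtain ⟨aV, haV, haVe⟩ := exists_restrict ha hVU
  have hr : aV.range = V := range_eq_of_mem haV (fun v => hV.2 V le_rfl _ haV v) le_rfl
  refine ⟨homEquiv haV hr * β, (F.autGroup V).mul_mem (homEquiv_mem_autGroup haV hr)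
    (GT.autGroup_mono hAi.1 hVU hβ), e₀, he₀, fun x hx₀ => ?_⟩
  rw [hx x (apply_mem he x), MulAut.mul_apply]
  show _ = aV _
  rw [haVe, hae]
  exact congrArg (fun z => ((α z : U) : Ω)) (Subtype.ext (hx' x hx₀))

/-- A subsystem of `p`-power index in an invariant subsystem is invariant under the ambient automorphisms. -/
theorem inv_pPower (hS : IsPGroup p S) {U : Subgroup Ω} {A : FusionSystem U} (hA : A.IsInvariantIn F)
    {V : Subgroup Ω} {B : FusionSystem V} (hV : F.StronglyClosed V) (hVU : V ≤ U) (hBs : B.IsSaturated p)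
    (hidx : B.HasPPowerIndexIn A p) {α : MulAut V} (hα : α ∈ F.autGroup V) : Inv B α := by
  haveI := finite_sub hV.1
  have hVp : IsPGroup p V := hS.to_le hV.1
  haveI := finite_sub hA.2.1.1
  intro P hP φ hφ
  have key : φ ∈ (pull B α).Hom P := by
    refine Induction.hom_induction hVp hBs (M := fun P φ => φ ∈ (pull B α).Hom P) ?_ ?_ ?_ P φ hφ
    · intro P Q φ ψ χ _ _ h hχ hp hq
      exact hom_congr ((pull B α).comp_mem hp hq h) hχ
    · intro P Q φ ψ h _ hφψ hq
      exact mem_of_restrict hq h hφψ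
    intro R hRn _ _ a ha _
    have hRV : R ≤ V := hRn.1
    refine (mem_autGroup hRV).1 (PPower.autGroup_le_sup' B (fullyAutomized_of_fullyNormalized hVp hBs hRn)
      (fun b hb hc => ?_) (autInducedBy_le_autGroup _ hRV) ha)
    have hres : autRes α hRV ∈ F.Hom R := by
      obtain ⟨χ, hχ, -, he⟩ := exists_hom_of_aut hV.1 hα
      exact mem_of_restrict hχ hRV fun x => (he _).symm
    have hr := autRes_range α hRV
    have hb' : MulAut.congr (homEquiv hres hr) b ∈ A.autGroup (img α R) :=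
      Normality.congr_mem_aut hA (hRV.trans hVU) hres hr (GT.autGroup_mono hidx.1 hRV hb)
    have hc' : (orderOf (MulAut.congr (homEquiv hres hr) b)).Coprime p := by
      rwa [MulEquiv.orderOf_eq]
    refine (mem_autGroup hRV).2 ⟨hRV, fun x => hRV (b x).2, _,
      (mem_autGroup (img_le α R)).1 (PPower.coprime_aut_mem hidx (img_le α R) hb' hc'), fun x hx hφx hαx => ?_⟩
    show ((homEquiv hres hr (b ((homEquiv hres hr).symm (homEquiv hres hr x))) : img α R) : Ω) = _
    rw [MulEquiv.symm_apply_apply]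
    rfl
  obtain ⟨-, -, χ, hχ, he⟩ := key
  exact ⟨χ, hχ, fun x => he x _⟩

end Cfsg.Agent.Lib.FS.PSolvableRed
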