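import Cfsg.Agent.Lib.FusionSystem.PSolvableReduction.Frattini
import Cfsg.Agent.Lib.FusionSystem.PPowerExists
import Cfsg.Agent.Lib.FusionSystem.NormalSub
import Cfsg.Agent.Lib.FusionAlperin.Residual
import Cfsg.Agent.Lib.FusionP3.Series.Residual

/-!
Residual limits: existence, containment, and invariance under passing to index prime to `p`.
-/

set_option autoImplicit false
set_option linter.style.haveILetI false
set_option linter.unusedSectionVars false

namespace Cfsg.Agent.Lib.FS.PSolvableRed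

open Cfsg Cfsg.FusionSystem Cfsg.Agent.Lib.FS
open Cfsg.Agent.Lib.FusionP3
open Cfsg.Agent.Lib.FusionP3.Prime
open Cfsg.Agent.Lib.Transfer.PResidual (sup_sylow_eq_top pResidual_le_iff)

universe u

variable {Ω : Type u} [Group Ω] {p : ℕ} [Fact p.Prime]

theorem residual_self {U : Subgroup Ω} {A R : FusionSystem U} (h : A.IsPPrimeResidual p R) :
    R.IsPPrimeResidual p R :=
  Series.residual_descend h h.1 h.2.1

theorem exists_limit_of_residual (n : ℕ) : ∀ {U : Subgroup Ω} [Finite U] (A : FusionSystem U), IsPGroup p U →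
    Nat.card U ≤ n → A.IsSaturated p → A.IsPPrimeResidual p A →
    ∃ (X : Subgroup Ω) (L : FusionSystem X), L.IsResidualLimitOf A p := by
  induction n using Nat.strong_induction_on with
  | _ n ih =>
    intro U _ A hU hn hA hres
    by_cases hst : A.hyperfocalSubgroup p = U
    · exact ⟨U, A, .stable A p hst hres⟩
    have hle := Tate.hyperfocal_le A p
    haveI := finite_sub hle
    have hVp := hU.to_le hle
    obtain ⟨D, hD, hDi⟩ := PPowerKernel.exists_pPower hU A hA hle le_rfl
    obtain ⟨D', hD'⟩ := Prime.exists_residual hVp hD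
    have hlt : Nat.card (A.hyperfocalSubgroup p) < n :=
      (lt_of_not_ge fun h => hst (Subgroup.eq_of_le_of_card_ge hle h)).trans_le hn
    obtain ⟨X, L, hL⟩ := ih _ hlt D' hVp le_rfl hD'.1 (residual_self hD')
    exact ⟨X, L, .step A p D D' ⟨hD, hDi⟩ hD' hL⟩

/-- Residual limits exist. -/
theorem exists_limit {U : Subgroup Ω} [Finite U] (hU : IsPGroup p U) {A : FusionSystem U} (hA : A.IsSaturated p) :
    ∃ (X : Subgroup Ω) (L : FusionSystem X), L.IsResidualLimitOf A p := by
  have hle := Tate.hyperfocal_le A p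
  haveI := finite_sub hle
  obtain ⟨D, hD, hDi⟩ := PPowerKernel.exists_pPower hU A hA hle le_rfl
  obtain ⟨D', hD'⟩ := Prime.exists_residual (hU.to_le hle) hD
  obtain ⟨X, L, hL⟩ := exists_limit_of_residual _ D' (hU.to_le hle) le_rfl hD'.1 (residual_self hD')
  exact ⟨X, L, .step A p D D' ⟨hD, hDi⟩ hD' hL⟩

omit [Fact p.Prime] in
/-- A residual limit is a subsystem. -/
theorem limit_le {X U : Subgroup Ω} {L : FusionSystem X} {A : FusionSystem U} (h : L.IsResidualLimitOf A p) :
    L.IsSubsystemOf A := by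
  induction h with
  | stable => exact fun _ => subset_rfl
  | step A p D D' hD hD' _ ih => exact fun P φ hφ => hD.2.1 P (hD'.2.1.1 P (ih P hφ))

/-- Residual limits are unique. -/
theorem limit_eq {U : Subgroup Ω} [Finite U] (hU : IsPGroup p U) {A : FusionSystem U} (hA : A.IsSaturated p)
    {X Y : Subgroup Ω} {L : FusionSystem X} {M : FusionSystem Y} (hL : L.IsResidualLimitOf A p)
    (hM : M.IsResidualLimitOf A p) : ∀ P, L.Hom P = M.Hom P :=
  FusionAlperin.Residual.limit_hom_eq hL Fact.out inferInstance hU hA A hA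
    (FusionAlperin.Residual.stronglyClosed_base A) (FusionAlperin.Residual.hasPPowerIndexIn_self A p) M hM

/-- A subsystem of `p`-power index in the residual has index prime to `p` in the one of the whole system. -/
theorem hasPrimeToP_of_pPower {U : Subgroup Ω} [Finite U] (hU : IsPGroup p U) {A R : FusionSystem U}
    (hR : A.IsPPrimeResidual p R) (hRA : R.IsInvariantIn A) {V : Subgroup Ω} (hV : A.StronglyClosed V)
    {D RV : FusionSystem V} (hD : D.IsSaturated p) (hDA : D.IsSubsystemOf A) (hRV : RV.IsSaturated p)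
    (hidx : RV.HasPPowerIndexIn R p) (hsub : RV.IsSubsystemOf D) : RV.HasPrimeToPIndexIn D p := by
  haveI := finite_sub hV.1
  have hVp : IsPGroup p V := hU.to_le hV.1
  have hpp : ∀ Q : Subgroup Ω, D.IsFullyNormalized Q → pp D p Q ≤ RV.autGroup Q := by
    intro Q hQ
    have hQV := hQ.1
    have hQU := hQV.trans hV.1
    haveI := finite_sub hQV
    haveI := GT.finite_mulAut ↥Q
    obtain ⟨Rs, hRs⟩ := (fullyAutomized_of_fullyNormalized hVp hD hQ).2
    set L : Subgroup (D.autGroup Q) := (R.autGroup Q).subgroupOf (D.autGroup Q) with hL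
    haveI hLn : L.Normal := ⟨fun k hk g =>
      Subgroup.mem_subgroupOf.2 (conj_mem_aut hRA hQU (GT.autGroup_mono hDA hQV g.2) hk)⟩
    obtain ⟨W, hW⟩ := exists_sylow_inf_normal Rs L
    refine pp_le_iff.2 fun a ha k hk => ?_
    have haR : a ∈ R.autGroup Q := hR.2.1.2 Q hQU (mem_pp_of_pow (GT.autGroup_mono hDA hQV ha) hk)
    have h1 : (⟨⟨a, ha⟩, Subgroup.mem_subgroupOf.2 haR⟩ : L) ∈ pResidual p L ⊔ (W : Subgroup L) := by
      rw [sup_sylow_eq_top]; trivial
    refine (sup_le (pResidual_le_iff.2 fun b hb => ?_) (fun b hb => ?_) :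
      pResidual p L ⊔ (W : Subgroup L) ≤ ((RV.autGroup Q).comap (D.autGroup Q).subtype).comap L.subtype) h1
    · exact PPower.coprime_aut_mem hidx hQV (Subgroup.mem_subgroupOf.1 b.2)
        (by simpa [Subgroup.coe_subtype] using hb)
    · rw [hW, Subgroup.mem_subgroupOf, Subgroup.mem_inf, hRs, Subgroup.mem_subgroupOf] at hb
      exact autInducedBy_le_autGroup RV hQV hb.1
  have hinv : ∀ α ∈ D.autGroup V, Inv RV α := fun α hα =>
    inv_pPower (F := A) hU hRA hV hV.1 hRV hidx (GT.autGroup_mono hDA le_rfl hα)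
  have hdec : ∀ (P : Subgroup Ω) (φ : P →* Ω), φ ∈ D.Hom P → Dec (D.autGroup V) RV φ := by
    refine Induction.hom_induction hVp hD (M := fun P φ => Dec (D.autGroup V) RV φ)
      (fun P Q φ ψ χ _ _ h he h₁ h₂ => Dec.comp hinv h₁ h₂ h he)
      (fun P Q φ ψ h _ he h₁ => h₁.restrict h he) ?_
    intro Q hQn _ _ a ha big
    haveI := finite_sub hQn.1
    obtain ⟨b, hb, hbn, hab⟩ := exists_frattini hVp (fullyAutomized_of_fullyNormalized hVp hD hQn) ha
    have h1 : Dec (D.autGroup V) RV (Q.subtype.comp b.toMonoidHom) := by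
      rcases hQn.1.lt_or_eq with hlt | heq
      · obtain ⟨ψ, hψ, hψe⟩ :=
          Induction.exists_extend_preimage (receptive_of_fullyNormalized hVp hD hQn) le_rfl hb hbn
        have hN : normalizerIn V Q ≤ Induction.preimageAut V Q (autInducedBy V Q) := fun g hg =>
          ⟨hg, Q.normalizerMonoidHom ⟨g, hg.2⟩, mem_autInducedBy.2 ⟨g, hg.1, fun _ => rfl⟩, fun _ => rfl⟩
        have hlt' := (Induction.lt_normalizerIn hVp hlt).trans_le hN
        haveI := finite_sub (src_le hψ)
        exact (big _ (lt_of_not_ge fun h => hlt'.ne (Subgroup.eq_of_le_of_card_ge hlt'.le h)) ψ hψ).restrict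
          hlt'.le fun x => (hψe x x.2 _).symm
      · subst heq
        exact Dec.of_aut hb le_rfl fun _ => rfl
    have h2 : Dec (D.autGroup V) RV (Q.subtype.comp (a * b⁻¹).toMonoidHom) :=
      Dec.of_mem ((mem_autGroup hQn.1).1 (hpp Q hQn hab))
    refine Dec.comp hinv h1 h2 (fun x => (b x).2) fun x => ?_
    show ((a x : Q) : Ω) = (((a * b⁻¹) (b x) : Q) : Ω)
    rw [MulAut.mul_apply, MulAut.inv_apply_self]
  have hRVD : RV.IsInvariantIn D := ⟨hsub, FusionAlperin.Residual.stronglyClosed_base D,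
    fun P hP φ hφ α hα => hinv α hα P hP φ hφ, fun P _ φ hφ => hdec P φ hφ⟩
  refine ⟨hsub, fun P hP a ha => ?_⟩
  haveI := finite_sub hP
  obtain ⟨Q, ⟨φ, hφ, hr⟩, hQn⟩ := exists_isFullyNormalized D hP
  obtain ⟨ψ, hψ, hψr, hψl, -⟩ := exists_inv hφ hr
  have h1 := Normality.congr_mem_aut hRVD hQn.1 hψ hψr (hpp Q hQn (congr_mem_pp hφ hr (a := a) ha))
  convert h1 using 1
  refine MulEquiv.ext fun x => Subtype.ext ?_
  set e := homEquiv hφ hr with he
  have hsymm : (homEquiv hψ hψr).symm x = e x :=
    (MulEquiv.symm_apply_eq _).2 (Subtype.ext (hψl x (hr.le ⟨x, rfl⟩)).symm)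
  show ((a x : P) : Ω) = ψ (e (a (e.symm ((homEquiv hψ hψr).symm x))))
  rw [hsymm, MulEquiv.symm_apply_apply]
  exact (hψl (a x) (hr.le ⟨a x, rfl⟩)).symm

theorem limit_residual_aux (n : ℕ) : ∀ {U : Subgroup Ω} [Finite U] (A R : FusionSystem U), IsPGroup p U →
    Nat.card U ≤ n → A.IsSaturated p → A.IsPPrimeResidual p R →
    ∀ {X Y : Subgroup Ω} (L : FusionSystem X) (M : FusionSystem Y), L.IsResidualLimitOf A p →
      M.IsResidualLimitOf R p → ∀ P, L.Hom P = M.Hom P := by
  induction n using Nat.strong_induction_on with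
  | _ n ih =>
    intro U _ A R hU hn hA hR X Y L M hL hM
    cases hL with
    | stable _ _ hst hres =>
      obtain rfl := Series.residual_unique hres hR
      exact limit_eq hU hA (.stable _ _ hst hres) hM
    | step _ _ D D' hD hD' hlim =>
      have hle := Tate.hyperfocal_le A p
      by_cases hst : A.hyperfocalSubgroup p = U
      · have hh : ∀ P, D.Hom P = A.Hom P := fun P => subset_antisymm (hD.2.1 P)
          (FusionAlperin.Residual.subset_of_pPowerIndex hU hA (fun _ => subset_rfl) hst.ge hD.2 P)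
        have h2 := FusionAlperin.Residual.pPrimeResidual_hom_eq hst hh hR hD'
        exact limit_eq hU hR.1
          (FusionAlperin.Residual.eq_of_base hst.symm (fun P => (h2 P).symm) hlim) hM
      haveI := finite_sub hle
      have hVp := hU.to_le hle
      have hlt : Nat.card (A.hyperfocalSubgroup p) < n :=
        (lt_of_not_ge fun h => hst (Subgroup.eq_of_le_of_card_ge hle h)).trans_le hn
      have hRA : R.IsInvariantIn A :=
        (Normality.residual_isNormalIn (F := A) hU (weaklyNormal_self hA) hR).1.2.2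
      obtain ⟨RV, hRV, hidx⟩ := PPowerKernel.exists_pPower hU R hR.1 hle (Tate.hyperfocal_mono hR.2.1.1)
      have hV := Tate.hyperfocal_stronglyClosed hU hA
      have hsub : RV.IsSubsystemOf D := FusionAlperin.Residual.subset_of_pPowerIndex hU hRV
        (fun P φ h => hR.2.1.1 P (hidx.1 P h)) le_rfl hD.2
      have hi := hasPrimeToP_of_pPower hU hR hRA hV hD.1 hD.2.1 hRV hidx hsub
      obtain ⟨Z, N, hN⟩ := exists_limit hVp hRV
      have h1 := ih _ hlt RV D' hVp le_rfl hRV (Series.residual_descend hD' hRV hi) N L hN hlim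
      have h2 := FusionAlperin.Residual.limit_hom_eq hM Fact.out inferInstance hU hR.1 RV hRV
        ⟨hle, fun P hP φ hφ => hV.2 P hP φ (hR.2.1.1 P hφ)⟩ hidx N hN
      exact fun P => (h1 P).symm.trans (h2 P).symm

/-- A saturated subsystem of index prime to `p` has the same residual limit. -/
theorem limit_primeTo {U : Subgroup Ω} [Finite U] (hU : IsPGroup p U) {A B : FusionSystem U}
    (hA : A.IsSaturated p) (hB : B.IsSaturated p) (hi : B.HasPrimeToPIndexIn A p) {X Y : Subgroup Ω}
    {L : FusionSystem X} {M : FusionSystem Y} (hL : L.IsResidualLimitOf A p) (hM : M.IsResidualLimitOf B p) :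
    ∀ P, L.Hom P = M.Hom P := by
  obtain ⟨R, hR⟩ := Prime.exists_residual hU hA
  obtain ⟨Z, N, hN⟩ := exists_limit hU hR.1
  intro P
  exact (limit_residual_aux _ A R hU le_rfl hA hR L N hL hN P).trans
    (limit_residual_aux _ B R hU le_rfl hB (Series.residual_descend hR hB hi) M N hM hN P).symm

end Cfsg.Agent.Lib.FS.PSolvableRed
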