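import Cfsg.Agent.Lib.FusionSystem.PSolvableReduction.Steps
import Cfsg.Agent.Lib.FusionSystem.NormalCentralizerOdd

/-!
Reductions to normal subsystems with `p`-solvable automizer quotient.
-/

set_option autoImplicit false
set_option linter.style.haveILetI false
set_option linter.unusedSectionVars false

namespace Cfsg.Agent.Lib.FS.PSolvableRed

open Cfsg Cfsg.FusionSystem Cfsg.Agent.Lib.FS
open Cfsg.Agent.Lib.FusionP3
open Cfsg.Agent.Lib.FusionP3.Prime

universe u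

variable {Ω : Type u} [Group Ω] {S : Subgroup Ω} [Finite S] {p : ℕ} [Fact p.Prime] {F : FusionSystem S}
variable {T : Subgroup Ω} {E : FusionSystem T}

theorem preimageAut_eq_sup (hS : IsPGroup p S) (hE : E.IsNormalIn F p) :
    Induction.preimageAut S T (E.autGroup T) = T ⊔ centralizerIn S T := by
  have hT := hE.1.2.2.2.1
  haveI := finite_sub hT.1
  haveI := GT.finite_mulAut ↥T
  have hTp : IsPGroup p T := hS.to_le hT.1
  refine le_antisymm ?_ (sup_le (Induction.le_preimageAut hT.1 (inn_le_autGroup E le_rfl))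
    (centralizerIn_le_preimageAut _))
  rintro g ⟨hg, w, hw, hwe⟩
  obtain ⟨R, hR⟩ := (fullyAutomized_of_fullyNormalized hTp hE.1.1 (isFullyNormalized_base E)).2
  obtain ⟨k, hk⟩ := isPGroup_autInducedBy hS T ⟨w, mem_autInducedBy.2 ⟨g, hg.1, hwe⟩⟩
  obtain ⟨c, -, hc⟩ := exists_conj_le_sylow R hR (T := Subgroup.zpowers w) (Subgroup.zpowers_le.2 hw)
    (by
      refine (IsPGroup.iff_card).2 ?_
      rw [Nat.card_zpowers]
      obtain ⟨j, -, hj⟩ := (Nat.dvd_prime_pow (Fact.out : p.Prime)).1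
        (orderOf_dvd_of_pow_eq_one (congrArg Subtype.val hk : w ^ p ^ k = 1))
      exact ⟨j, hj⟩)
  obtain ⟨t, ht, hte⟩ := mem_autInducedBy.1 (hc w (Subgroup.mem_zpowers w))
  set q : T := c⁻¹ ⟨t, ht⟩ with hq
  have hwq : ∀ x : T, w x = q * x * q⁻¹ := fun x => by
    apply c.injective
    rw [map_mul, map_mul, map_inv, hq, MulAut.apply_inv_self]
    refine Subtype.ext (Eq.trans ?_ (hte (c x)))
    rw [MulAut.mul_apply, MulAut.mul_apply, MulAut.inv_apply_self]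
  have hcent : (q : Ω)⁻¹ * g ∈ centralizerIn S T := by
    refine mem_centralizerIn.2 ⟨mul_mem (inv_mem (hT.1 q.2)) hg.1, fun x hx => ?_⟩
    have h1 : g * x * g⁻¹ = (q : Ω) * x * (q : Ω)⁻¹ := by
      rw [← hwe ⟨x, hx⟩, hwq]
      rfl
    symm
    calc (q : Ω)⁻¹ * g * x = (q : Ω)⁻¹ * (g * x * g⁻¹) * g := by group
      _ = x * ((q : Ω)⁻¹ * g) := by rw [h1]; group
  have h2 := mul_mem (Subgroup.mem_sup_left (T := centralizerIn S T) q.2) (Subgroup.mem_sup_right hcent)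
  simpa using h2

/-- The normal envelope. -/
theorem envelope (hS : IsPGroup p S) (hF : F.IsSaturated p) (hE : E.IsNormalIn F p)
    [hn : ((E.autGroup T).subgroupOf (F.autGroup T)).Normal]
    (hsolv : IsPSolvable p (↥(F.autGroup T) ⧸ (E.autGroup T).subgroupOf (F.autGroup T))) :
    ∃ F₀ : FusionSystem (T ⊔ centralizerIn S T), Stage p F E (E.autGroup T) F₀ := by
  obtain ⟨U, A, hA⟩ := stage_bot hS hF hE hsolv
  obtain rfl : U = T ⊔ centralizerIn S T := hA.base.trans (preimageAut_eq_sup hS hE)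
  exact ⟨A, hA⟩

open Cfsg.Agent.Lib.FS.NormalCentralizer in
/-- When the centralizer of `E` lies in `T`, the envelope has `E` as a subsystem of `p`-power index. -/
theorem hasPPowerIndexIn_envelope (hS : IsPGroup p S) (hE : E.IsNormalIn F p)
    (hC : centralizerSub F E ≤ T) {F₀ : FusionSystem (T ⊔ centralizerIn S T)}
    (h : Stage p F E (E.autGroup T) F₀) : E.HasPPowerIndexIn F₀ p := by
  have hEi := hE.1.2.2
  have hT := hEi.2.1
  have h0 := h.normal.1.2.2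
  haveI := finite_sub h0.2.1.1
  haveI := finite_sub hT.1
  have hWp : IsPGroup p ↥(T ⊔ centralizerIn S T) := hS.to_le h0.2.1.1
  have hTW : T ≤ T ⊔ centralizerIn S T := le_sup_left
  have hcl := restrict_closed h0.1 hT hTW
  obtain ⟨D, hD⟩ := exists_centralizerSystem F hT.1
  have hfoc : F₀.focalSubgroup ≤ T := by
    refine (Subgroup.closure_le _).2 ?_
    rintro _ ⟨P, φ, x, hφ, rfl⟩
    obtain ⟨ψ, hψ, hc⟩ := StronglyClosed.hasLift hWp h.normal.1.1 hcl hφ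
    obtain ⟨ψT, hψT, hψTe⟩ := exists_restrict hψ (le_sup_right : T ≤ P ⊔ T)
    have hr : ψT.range = T := range_eq_of_mem hψT (fun t => hcl.2 T le_rfl _ hψT t) le_rfl
    obtain ⟨β, hβ, hβT, hβC⟩ := hE.2 _ (h.aut.le (homEquiv_mem_autGroup hψT hr))
    obtain ⟨b, hb, -, hbe⟩ := exists_hom_of_aut h0.2.1.1 ((F.autGroup _).inv_mem hβ)
    obtain ⟨δ, hδ, hδe⟩ := exists_comp (h0.1 _ hψ) hb (apply_mem hψ)
    have hδT : ∀ (t : Ω) (ht : t ∈ T), δ ⟨t, le_sup_right (a := P) ht⟩ = t := fun t ht => by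
      rw [hδe, hbe]
      refine Eq.trans (congrArg (fun z => (((β⁻¹ : MulAut _) z : ↥(T ⊔ centralizerIn S T)) : Ω)) ?_)
        (congrArg Subtype.val (MulAut.inv_apply_self _ β (Subgroup.inclusion hTW ⟨t, ht⟩)))
      exact Subtype.ext ((hψTe ⟨t, ht⟩).symm.trans (hβT ⟨t, ht⟩).symm)
    set C₀ := (P ⊔ T) ⊓ centralizerIn S T with hC₀
    obtain ⟨δ₀, hδ₀, hδ₀e⟩ := exists_restrict hδ (inf_le_left : C₀ ≤ P ⊔ T)
    obtain ⟨δ₁, hδ₁, hδ₁e⟩ := exists_restrict hδ (sup_le inf_le_left le_sup_right : C₀ ⊔ T ≤ P ⊔ T)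
    have hδD : δ₀ ∈ D.Hom C₀ := by
      rw [hD]
      refine ⟨hδ₀, inf_le_right, fun c => mem_centralizerIn.2 ⟨apply_mem hδ₀ c, fun t ht => ?_⟩,
        δ₁, hδ₁, fun c => ?_, fun t => ?_⟩
      · rw [hδ₀e]
        conv_lhs => rw [← hδT t ht]
        conv_rhs => rw [← hδT t ht]
        rw [← map_mul, ← map_mul]
        exact congrArg δ (Subtype.ext ((mem_centralizerIn.1 c.2.2).2 t ht))
      · rw [hδ₁e, hδ₀e]
        rfl
      · rw [hδ₁e]
        exact hδT t t.2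
    have hnorm : ∀ u ∈ centralizerIn S T, ∀ t ∈ T, u * t * u⁻¹ ∈ T := fun u hu t ht => by
      rw [← (mem_centralizerIn.1 hu).2 t ht, mul_inv_cancel_right]; exact ht
    obtain ⟨c, hcC, t, ht, hxct⟩ := StronglyClosed.exists_mul_of_mem_sup hnorm
      ((sup_comm T (centralizerIn S T)).le (src_le hφ x.2))
    have hcPT : c ∈ P ⊔ T := by
      rw [show c = (x : Ω) * t⁻¹ by rw [hxct]; group]
      exact mul_mem (Subgroup.mem_sup_left x.2) (Subgroup.mem_sup_right (inv_mem ht))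
    have hd : c⁻¹ * δ₀ ⟨c, hcPT, hcC⟩ ∈ T := hC (Subgroup.subset_closure
      (centralized_of_mem_focal hS hE hD (Subgroup.subset_closure ⟨C₀, δ₀, ⟨c, hcPT, hcC⟩, hδD, rfl⟩)))
    have hβTmem : ∀ w : ↥(T ⊔ centralizerIn S T), (w : Ω) ∈ T → ((β w : ↥(T ⊔ centralizerIn S T)) : Ω) ∈ T :=
      fun w hw => by
        rw [show w = Subgroup.inclusion le_sup_left ⟨(w : Ω), hw⟩ from Subtype.ext rfl, hβT]
        exact (homEquiv hψT hr _).2
    set y : ↥(P ⊔ T) := Subgroup.inclusion le_sup_left x with hy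
    have hψy : c⁻¹ * ψ y ∈ T := by
      have h1 : ψ y = ((β ⟨δ y, by rw [hδe, hbe]; exact Subtype.mem _⟩ : ↥(T ⊔ centralizerIn S T)) : Ω) := by
        refine Eq.trans ?_ (congrArg (fun z => ((β z : ↥(T ⊔ centralizerIn S T)) : Ω))
          (Subtype.ext ((hδe y).trans (hbe _)).symm :
            β⁻¹ ⟨ψ y, apply_mem hψ y⟩ = (⟨δ y, by rw [hδe, hbe]; exact Subtype.mem _⟩ : ↥(T ⊔ centralizerIn S T))))
        rw [MulAut.apply_inv_self]
      have h2 : δ y = c * ((c⁻¹ * δ₀ ⟨c, hcPT, hcC⟩) * t) := by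
        rw [show y = ⟨c, hcPT⟩ * ⟨t, le_sup_right (a := P) ht⟩ from Subtype.ext hxct, map_mul, hδT t ht, hδ₀e]
        group
      have hcW : c ∈ T ⊔ centralizerIn S T := le_sup_right (a := T) hcC
      have hdt : (c⁻¹ * δ₀ ⟨c, hcPT, hcC⟩) * t ∈ T := mul_mem hd ht
      rw [h1, show (⟨δ y, _⟩ : ↥(T ⊔ centralizerIn S T)) = ⟨c, hcW⟩ * ⟨_, hTW hdt⟩ from Subtype.ext h2, map_mul,
        Subgroup.coe_mul, ← mul_assoc]
      exact mul_mem (hβC ⟨c, hcW⟩ hcC).1 (hβTmem _ hdt)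
    rw [hxct, show (c * t)⁻¹ * φ x = t⁻¹ * (c⁻¹ * ψ y * ((φ x)⁻¹ * ψ y)⁻¹) by group]
    exact mul_mem (inv_mem ht) (mul_mem hψy (inv_mem (hc x)))
  refine ⟨h.sub, (Tate.hyperfocal_le_focal F₀ p).trans hfoc, fun P hP a ha => ?_⟩
  obtain ⟨α, hα, e, he, hx⟩ := dec_of_invariant (p := p) hS hEi h0.1 h.normal.1.1 hTW hP
    ((mem_autGroup (hP.trans hTW)).1 (Subgroup.map_subtype_le _ ha))
  exact (mem_autGroup hP).2 (mem_of_dec (F := E) (fun _ => subset_rfl) (h.aut.le hα) he hx)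

end Cfsg.Agent.Lib.FS.PSolvableRed
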