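import Cfsg.Agent.Lib.FusionSystem.PSolvableReduction.Limits
import Cfsg.Agent.S5198

/-!
Descending along a normal series of the automizer of a normal subsystem.
-/

set_option autoImplicit false
set_option linter.style.haveILetI false
set_option linter.unusedSectionVars false

namespace Cfsg.Agent.Lib.FS.PSolvableRed

open Cfsg Cfsg.FusionSystem Cfsg.Agent.Lib.FS
open Cfsg.Agent.Lib.FusionP3
open Cfsg.Agent.Lib.FusionP3.Prime
open Cfsg.Agent.Lib.Transfer.PResidual (exists_pPart_mul_pPrimePart pResidual_le_iff)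

universe u

variable {Ω : Type u} [Group Ω] {S : Subgroup Ω} [Finite S] {p : ℕ} [Fact p.Prime] {F : FusionSystem S}
variable {T : Subgroup Ω} {E : FusionSystem T}

/-- A normal subsystem lying over `E` that induces exactly `H` on `T` and has the residual limit of `F`. -/
structure Stage (p : ℕ) (F : FusionSystem S) (E : FusionSystem T) (H : Subgroup (MulAut T)) {U : Subgroup Ω}
    (A : FusionSystem U) : Prop where
  base : U = Induction.preimageAut S T H
  normal : A.IsNormalIn F p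
  sub : E.IsSubsystemOf A
  aut : A.autGroup T = H
  lim : ∀ {X Y : Subgroup Ω} (L : FusionSystem X) (M : FusionSystem Y), L.IsResidualLimitOf A p →
    M.IsResidualLimitOf F p → ∀ P, L.Hom P = M.Hom P

theorem centralizerIn_le_preimageAut (H : Subgroup (MulAut T)) :
    centralizerIn S T ≤ Induction.preimageAut S T H := fun c hc =>
  ⟨centralizerIn_le_normalizerIn T hc, 1, one_mem _, fun t => by
    rw [MulAut.one_apply, ← (mem_centralizerIn.1 hc).2 t t.2]; group⟩

theorem stage_top (hS : IsPGroup p S) (hF : F.IsSaturated p) (hE : E.IsInvariantIn F) :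
    ∃ (U : Subgroup Ω) (A : FusionSystem U), Stage p F E (F.autGroup T) A := by
  have hT := hE.2.1
  refine ⟨S, F, le_antisymm (fun g hg => ?_) ((Induction.preimageAut_le T _).trans (normalizerIn_le T)),
    isNormalIn_of_centralizer (weaklyNormal_self hF) (centralizerIn_le S), hE.1, rfl,
    fun L M hL hM => limit_eq hS hF hL hM⟩
  exact ⟨⟨hg, le_normalizer_closed hT hg⟩, T.normalizerMonoidHom ⟨g, le_normalizer_closed hT hg⟩,
    autInducedBy_le_autGroup F hT.1 (mem_autInducedBy.2 ⟨g, hg, fun _ => rfl⟩), fun _ => rfl⟩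

theorem stage_pPower (hS : IsPGroup p S) (hF : F.IsSaturated p) (hE : E.IsNormalIn F p)
    {H H' : Subgroup (MulAut T)} (hN : E.autGroup T ≤ H') (hHH : H' ≤ H)
    (hn : ∀ a ∈ F.autGroup T, ∀ h ∈ H', a * h * a⁻¹ ∈ H')
    (hco : ∀ x ∈ H, (orderOf x).Coprime p → x ∈ H') {U : Subgroup Ω} {A : FusionSystem U}
    (hA : Stage p F E H A) : ∃ (V : Subgroup Ω) (B : FusionSystem V), Stage p F E H' B := by
  have hEi := hE.1.2.2
  have hT := hEi.2.1
  haveI := finite_sub hT.1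
  haveI := GT.finite_mulAut ↥T
  have hAs := hA.normal.1.1
  have hAi := hA.normal.1.2.2
  haveI := finite_sub hAi.2.1.1
  have hUp : IsPGroup p U := hS.to_le hAi.2.1.1
  have hInn : Inn T ≤ H' := (inn_le_autGroup E le_rfl).trans hN
  set V := Induction.preimageAut S T H' with hV
  have hVU : V ≤ U := by
    rw [hA.base]
    exact fun g ⟨hg, w, hw, hwe⟩ => ⟨hg, w, hHH hw, hwe⟩
  have hTV : T ≤ V := Induction.le_preimageAut hT.1 hInn
  have hTU : T ≤ U := hTV.trans hVU
  have hclV : F.StronglyClosed V := stronglyClosed_preimageAut hS hF hT hn hInn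
  have hclT := restrict_closed hAi.1 hT hTU
  have hC : centralizerIn S V ≤ V := (centralizerIn_anti hTV).trans (centralizerIn_le_preimageAut H')
  have hhyp : A.hyperfocalSubgroup p ≤ V := by
    intro x hx
    obtain ⟨α, hα, hαe⟩ := Cfsg.Agent.S5198.result p hUp A hAs T hclT x hx
    have hxS : x ∈ S := hAi.2.1.1 (Tate.hyperfocal_le A p hx)
    refine ⟨⟨hxS, le_normalizer_closed hT hxS⟩, α, (sup_le ?_ hInn : _ ≤ H') hα, hαe⟩
    rw [Subgroup.map_le_iff_le_comap, pResidual_le_iff]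
    exact fun g hg => hco _ (hA.aut.le g.2) (by simpa [Subgroup.coe_subtype] using hg)
  obtain ⟨B, hB, hidx⟩ := PPowerKernel.exists_pPower hUp A hAs hVU hhyp
  have hVn : (V.subgroupOf U).Normal := ⟨fun x hx g =>
    StronglyClosed.conj_mem_of_stronglyClosed (restrict_closed hAi.1 hclV hVU) g.2 hx⟩
  have hBn := PPower.isNormalIn_of_pPowerIndex hUp hAs hVU hVn hhyp hB hidx
  haveI := finite_sub hVU
  have hVp : IsPGroup p V := hUp.to_le hVU
  refine ⟨V, B, rfl, isNormalIn_comp hA.normal hB hBn.1.2.2 hclV hC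
      (fun α hα => inv_pPower hS hAi hclV hVU hB hidx hα),
    FusionAlperin.Residual.subset_of_pPowerIndex hUp hE.1.1 hA.sub hTV hidx, le_antisymm ?_ ?_, ?_⟩
  · refine PPower.autGroup_le_sup' B (fullyAutomized_of_fullyNormalized hVp hB
      (fullyNormalized_closed (restrict_closed hidx.1 hclT hTV)))
      (fun b hb hc => hco b (hA.aut.le (GT.autGroup_mono hidx.1 hTV hb)) hc) ?_
    refine (Subgroup.closure_le _).2 ?_
    rintro b ⟨g, ⟨-, w, hw, hwe⟩, hbg⟩
    exact (show w = b from MulEquiv.ext fun t => Subtype.ext ((hwe t).trans (hbg t).symm)) ▸ hw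
  · intro x hx
    obtain ⟨a, b, hax, hbx, hab, -, ⟨k, hk⟩, hb⟩ :=
      exists_pPart_mul_pPrimePart (p := p) x (isOfFinOrder_of_finite x)
    have hmem : ∀ y ∈ Subgroup.zpowers x, y ∈ H' := fun y hy => Subgroup.zpowers_le.2 hx hy
    rw [← hab]
    refine mul_mem ?_ (PPower.coprime_aut_mem hidx hTV (hA.aut.ge (hHH (hmem b hbx))) hb)
    obtain ⟨R, hR⟩ := (fullyAutomized_of_fullyNormalized hUp hAs (fullyNormalized_closed hclT)).2
    have haA : a ∈ A.autGroup T := hA.aut.ge (hHH (hmem a hax))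
    obtain ⟨c, hc, hct⟩ := exists_conj_le_sylow R hR (T := Subgroup.zpowers a) (Subgroup.zpowers_le.2 haA)
      (by
        refine (IsPGroup.iff_card).2 ?_
        rw [Nat.card_zpowers]
        obtain ⟨j, -, hj⟩ := (Nat.dvd_prime_pow (Fact.out : p.Prime)).1 (orderOf_dvd_of_pow_eq_one hk)
        exact ⟨j, hj⟩)
    obtain ⟨g, hg, hge⟩ := mem_autInducedBy.1 (hct a (Subgroup.mem_zpowers a))
    have hw : c * a * c⁻¹ ∈ H' := hn c (GT.autGroup_mono hAi.1 hTU hc) a (hmem a hax)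
    have hgV : g ∈ V := ⟨⟨hAi.2.1.1 hg, le_normalizer_closed hT (hAi.2.1.1 hg)⟩, _, hw, hge⟩
    have h1 := conj_mem_aut hBn.1.2.2 hTV ((A.autGroup T).inv_mem hc)
      (autInducedBy_le_autGroup B hTV (mem_autInducedBy.2 ⟨g, hgV, hge⟩))
    simpa [mul_assoc] using h1
  · intro X Y L M hL hM P
    obtain ⟨Z, N, hN'⟩ := exists_limit hUp hAs
    exact (FusionAlperin.Residual.limit_hom_eq hN' Fact.out inferInstance hUp hAs B hB
      (restrict_closed hAi.1 hclV hVU) hidx L hL P).symm.trans (hA.lim N M hN' hM P)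

theorem stage_primeTo (hS : IsPGroup p S) (hE : E.IsNormalIn F p)
    {H H' : Subgroup (MulAut T)} (hN : E.autGroup T ≤ H') (hHH : H' ≤ H)
    (hn : ∀ a ∈ F.autGroup T, ∀ h ∈ H', a * h * a⁻¹ ∈ H')
    (hpe : ∀ x ∈ H, ∀ k : ℕ, x ^ p ^ k = 1 → x ∈ H') {U : Subgroup Ω} {A : FusionSystem U}
    (hA : Stage p F E H A) : ∃ (V : Subgroup Ω) (B : FusionSystem V), Stage p F E H' B := by
  have hEi := hE.1.2.2
  have hT := hEi.2.1
  haveI := finite_sub hT.1
  haveI := GT.finite_mulAut ↥T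
  have hAs := hA.normal.1.1
  have hAi := hA.normal.1.2.2
  haveI := finite_sub hAi.2.1.1
  have hUp : IsPGroup p U := hS.to_le hAi.2.1.1
  have hInn : Inn T ≤ H' := (inn_le_autGroup E le_rfl).trans hN
  have hbase : U = Induction.preimageAut S T H' := by
    rw [hA.base]
    refine le_antisymm ?_ fun g ⟨hg, w, hw, hwe⟩ => ⟨hg, w, hHH hw, hwe⟩
    rintro g ⟨hg, w, hw, hwe⟩
    obtain ⟨k, hk⟩ := isPGroup_autInducedBy hS T ⟨w, mem_autInducedBy.2 ⟨g, hg.1, hwe⟩⟩
    exact ⟨hg, w, hpe w hw k (congrArg Subtype.val hk), hwe⟩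
  have hTU : T ≤ U := by rw [hbase]; exact Induction.le_preimageAut hT.1 hInn
  have hCU : centralizerIn S U ≤ U :=
    (centralizerIn_anti hTU).trans (by rw [hbase]; exact centralizerIn_le_preimageAut H')
  have hEA := isInvariantIn_of_le hS hEi hAi.1 hAs hTU hA.sub
  have h : Kernel A p E H' :=
    { pGroup := hUp
      sat := hAs
      sat' := hE.1.1
      sub := hA.sub
      closed := hEA.2.1
      inv := fun α hα P hP φ hφ => hEA.2.2.1 P hP φ hφ α hα
      frattini := hEA.2.2.2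
      le := hA.aut.symm ▸ hHH
      aut_le := hN
      normal := fun α hα k hk => hn α (GT.autGroup_mono hAi.1 hTU hα) k hk
      pElt := fun α hα k hk => hpe α (hA.aut.le hα) k hk }
  have hgen : (gen0 A p).IsSubsystemOf h.sys := gen0_le_twisted h.pGroup _
  have hinv : ∀ α ∈ F.autGroup U, Inv h.sys α := by
    intro α hα P hP φ hφ
    obtain ⟨-, γ, ⟨hγ, u, hu, hue⟩, e, he, hx⟩ := hφ
    obtain ⟨a, ha, -, hae⟩ := exists_hom_of_aut hAi.2.1.1 hα
    obtain ⟨aT, haT, haTe⟩ := exists_restrict ha hTU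
    have hr : aT.range = T := range_eq_of_mem haT (fun t => hT.2 T le_rfl _ haT t) le_rfl
    set β := homEquiv haT hr with hβdef
    have hβ : β ∈ F.autGroup T := homEquiv_mem_autGroup haT hr
    have hβe : ∀ t : T, ((β t : T) : Ω) = ((α ⟨(t : Ω), hTU t.2⟩ : U) : Ω) := fun t =>
      (haTe t).trans (hae _)
    obtain ⟨χ₀, hχ₀, hχ₀e⟩ := Normality.gen0_inv_ambient hUp hAs hAi hα P hP e he
    have hγ' : α * γ * α⁻¹ ∈ resInto h.closed.1 A H' := by
      refine ⟨Prime.aut_normal hAi hα hγ, β * u * β⁻¹, hn β hβ u hu, fun t => ?_⟩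
      obtain ⟨s, rfl⟩ := β.surjective t
      rw [MulAut.mul_apply, MulAut.mul_apply, MulAut.inv_apply_self, hβe,
        show (⟨((β s : T) : Ω), h.closed.1 (β s).2⟩ : U) = α ⟨(s : Ω), hTU s.2⟩ from Subtype.ext (hβe s),
        MulAut.mul_apply, MulAut.mul_apply, MulAut.inv_apply_self]
      exact congrArg (fun z => ((α z : U) : Ω)) (Subtype.ext (hue s))
    let χ : img α P →* Ω := (autRes (α * γ * α⁻¹) le_rfl).comp (χ₀.codRestrict U (apply_mem hχ₀))
    refine ⟨χ, ⟨mem_of_dec (gen0_le A p) hγ'.1 hχ₀ fun y _ => rfl, _, hγ', χ₀, hχ₀, fun y _ => rfl⟩,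
      fun x hφx hαx => ?_⟩
    refine ((congrArg (fun z => (((α * γ * α⁻¹) z : U) : Ω)) (Subtype.ext (hχ₀e x (apply_mem he x) hαx) :
      (⟨χ₀ ⟨_, hαx⟩, apply_mem hχ₀ _⟩ : U) = α ⟨e x, apply_mem he x⟩))).trans ?_
    rw [MulAut.mul_apply, MulAut.mul_apply, MulAut.inv_apply_self]
    exact congrArg (fun z => ((α z : U) : Ω)) (Subtype.ext (hx x _).symm)
  refine ⟨U, h.sys, hbase, isNormalIn_comp hA.normal h.sys_saturated h.sys_normal.1.2.2 hAi.2.1 hCU hinv,
    h.sub_sys, le_antisymm ?_ ?_, ?_⟩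
  · intro a ha
    obtain ⟨-, γ, ⟨-, u, hu, hue⟩, e, he, hx⟩ := (mem_autGroup hTU).1 ha
    have hTc : E.IsCentric T := (fam_centric (F := E) (p := p)).base
    obtain ⟨k, hk, e', he', hke⟩ := (h.gen0_sub T he).2 T hTc le_rfl
    have hr : e'.range = T := range_eq_of_mem he' (fun t => apply_mem he' t) le_rfl
    have heq : a = u * k * homEquiv he' hr := by
      refine MulEquiv.ext fun t => Subtype.ext ?_
      rw [MulAut.mul_apply, MulAut.mul_apply, hue]
      refine (hx t (apply_mem he t)).trans ?_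
      exact congrArg (fun z => ((γ z : U) : Ω)) (Subtype.ext (hke t (apply_mem he' t)))
    rw [heq]
    exact mul_mem (mul_mem hu hk) (hN (homEquiv_mem_autGroup he' hr))
  · intro x hx
    obtain ⟨δ, hδ, b, -, hbe, hxb⟩ := h.exists_ext (hA.aut.ge (hHH hx))
    have hbH : b ∈ H' := by simpa using mul_mem (inv_mem (h.pp_le_K hxb)) hx
    obtain ⟨d, hd, -, hde⟩ := exists_hom_of_aut le_rfl (h.sys_autGroup.2 ⟨hδ, b, hbH, hbe⟩)
    obtain ⟨dT, hdT, hdTe⟩ := exists_restrict hd hTU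
    have hb : b ∈ h.sys.autGroup T :=
      mem_autGroup_of_hom hdT fun t => (hbe t).trans ((hdTe t).trans (hde _)).symm
    simpa using mul_mem (GT.autGroup_mono hgen hTU (gen0_index hUp hAs hTU hxb)) hb
  · intro X Y L M hL hM P
    obtain ⟨Z, N, hN'⟩ := exists_limit hUp hAs
    exact (limit_primeTo hUp hAs h.sys_saturated h.sys_index hN' hL P).symm.trans (hA.lim N M hN' hM P)

/-- One step down in a group with `p`-solvable quotient. -/
theorem exists_below {M : Type*} [Group M] {N H G : Subgroup M} [hn : (N.subgroupOf G).Normal]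
    (hsolv : IsPSolvable p (↥G ⧸ N.subgroupOf G)) (hNH : N ≤ H) (hHG : H ≤ G) (hne : N ≠ H)
    (hHn : ∀ a ∈ G, ∀ h ∈ H, a * h * a⁻¹ ∈ H) :
    ∃ H' : Subgroup M, N ≤ H' ∧ H' < H ∧ (∀ a ∈ G, ∀ h ∈ H', a * h * a⁻¹ ∈ H') ∧
      ((∀ x ∈ H, (orderOf x).Coprime p → x ∈ H') ∨ ∀ x ∈ H, ∀ k : ℕ, x ^ p ^ k = 1 → x ∈ H') := by
  set q := QuotientGroup.mk' (N.subgroupOf G) with hq
  obtain ⟨n, C, h0, hl, -, hCn, hf⟩ := hsolv
  set Hb := (H.subgroupOf G).map q with hHb
  haveI : (H.subgroupOf G).Normal := ⟨fun x hx g => hHn g g.2 x hx⟩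
  haveI hHbn : Hb.Normal := Subgroup.Normal.map inferInstance q (QuotientGroup.mk'_surjective _)
  have hzero : ¬ Hb ≤ C 0 := by
    rw [h0]
    intro hle
    refine hne (le_antisymm hNH fun x hx => ?_)
    have h1 : q ⟨x, hHG hx⟩ = 1 := Subgroup.mem_bot.1 (hle ⟨⟨x, hHG hx⟩, hx, rfl⟩)
    exact Subgroup.mem_subgroupOf.1 ((QuotientGroup.eq_one_iff _).1 h1)
  obtain ⟨i, -, hi⟩ := Finite.exists_le_maximal (p := fun i => ¬ Hb ≤ C i) hzero
  rcases Fin.eq_castSucc_or_eq_last i with ⟨j, rfl⟩ | rfl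
  swap
  · exact absurd (hl ▸ le_top) hi.1
  have hj : Hb ≤ C j.succ := not_not.1 fun hh =>
    (Fin.castSucc_lt_succ (i := j)).not_ge (hi.2 hh (Fin.castSucc_lt_succ (i := j)).le)
  haveI := hCn j.castSucc
  set Kb := C j.castSucc ⊓ Hb with hKb
  refine ⟨(Kb.comap q).map G.subtype, ?_, lt_of_le_of_ne ?_ ?_, ?_, ?_⟩
  · intro x hx
    refine ⟨⟨x, hHG (hNH hx)⟩, ?_, rfl⟩
    have h1 : q ⟨x, hHG (hNH hx)⟩ = 1 := (QuotientGroup.eq_one_iff _).2 (Subgroup.mem_subgroupOf.2 hx)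
    rw [SetLike.mem_coe, Subgroup.mem_comap, h1]
    exact one_mem _
  · rintro _ ⟨x, hx, rfl⟩
    obtain ⟨y, hy, hyx⟩ := (Subgroup.mem_comap.1 hx).2
    have h1 : ((y⁻¹ * x : G) : M) ∈ N := Subgroup.mem_subgroupOf.1 ((QuotientGroup.eq).1 hyx)
    simpa using mul_mem (Subgroup.mem_subgroupOf.1 hy) (hNH h1)
  · intro he
    refine hi.1 ?_
    rintro _ ⟨y, hy, rfl⟩
    obtain ⟨z, hz, hzy⟩ := he.ge (Subgroup.mem_subgroupOf.1 hy)
    exact (Subtype.ext hzy : z = y) ▸ (Subgroup.mem_comap.1 hz).1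
  · rintro a ha _ ⟨x, hx, rfl⟩
    exact ⟨⟨a, ha⟩ * x * ⟨a, ha⟩⁻¹, Subgroup.Normal.conj_mem inferInstance x hx ⟨a, ha⟩, rfl⟩
  · have key : ∀ x (hx : x ∈ H), (orderOf x).Coprime ((C j.castSucc).relIndex (C j.succ)) →
        x ∈ (Kb.comap q).map G.subtype := by
      intro x hx hc
      refine ⟨⟨x, hHG hx⟩, ⟨?_, ⟨_, hx, rfl⟩⟩, rfl⟩
      set y : ↥(C j.succ) := ⟨q ⟨x, hHG hx⟩, hj ⟨_, hx, rfl⟩⟩ with hy
      have hd : orderOf y ∣ orderOf x := by
        rw [hy, Subgroup.orderOf_mk]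
        exact (orderOf_map_dvd q _).trans (by rw [Subgroup.orderOf_mk])
      haveI : ((C j.castSucc).subgroupOf (C j.succ)).Normal := inferInstance
      obtain ⟨m, hm⟩ := exists_pow_eq_self_of_coprime (x := y) (hc.coprime_dvd_left hd).symm
      have h1 : y ∈ (C j.castSucc).subgroupOf (C j.succ) := by
        rw [← hm]
        exact Subgroup.pow_mem _ (Subgroup.pow_index_mem _ y) m
      exact h1
    rcases hf j with ⟨m, hm⟩ | hc
    · exact Or.inl fun x hx hx' => key x hx (hm ▸ hx'.pow_right m)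
    · exact Or.inr fun x hx k hk => key x hx
        ((hc.symm.pow_left k).coprime_dvd_left (orderOf_dvd_of_pow_eq_one hk))

/-- All the way down. -/
theorem stage_bot (hS : IsPGroup p S) (hF : F.IsSaturated p) (hE : E.IsNormalIn F p)
    [hn : ((E.autGroup T).subgroupOf (F.autGroup T)).Normal]
    (hsolv : IsPSolvable p (↥(F.autGroup T) ⧸ (E.autGroup T).subgroupOf (F.autGroup T))) :
    ∃ (U : Subgroup Ω) (A : FusionSystem U), Stage p F E (E.autGroup T) A := by
  have hEi := hE.1.2.2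
  haveI := finite_sub hEi.2.1.1
  haveI := GT.finite_mulAut ↥T
  suffices key : ∀ (n : ℕ) (H : Subgroup (MulAut T)), Nat.card H ≤ n → E.autGroup T ≤ H →
      H ≤ F.autGroup T → (∀ a ∈ F.autGroup T, ∀ h ∈ H, a * h * a⁻¹ ∈ H) →
      (∃ (U : Subgroup Ω) (A : FusionSystem U), Stage p F E H A) →
      ∃ (U : Subgroup Ω) (A : FusionSystem U), Stage p F E (E.autGroup T) A from
    key _ _ le_rfl (GT.autGroup_mono hEi.1 le_rfl) le_rfl
      (fun a ha h hh => mul_mem (mul_mem ha hh) (inv_mem ha)) (stage_top hS hF hEi)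
  intro n
  induction n using Nat.strong_induction_on with
  | _ n ih =>
    intro H hn hNH hHG hHn hstage
    by_cases he : E.autGroup T = H
    · rw [he]; exact hstage
    obtain ⟨H', hN', hlt, hn', hcase⟩ := exists_below (p := p) hsolv hNH hHG he hHn
    obtain ⟨U, A, hA⟩ := hstage
    have hcard : Nat.card H' < n :=
      (lt_of_not_ge fun h => hlt.ne (Subgroup.eq_of_le_of_card_ge hlt.le h)).trans_le hn
    refine ih _ hcard H' le_rfl hN' (hlt.le.trans hHG) hn' ?_
    rcases hcase with hc | hc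
    · exact stage_pPower hS hF hE hN' hlt.le hn' hc hA
    · exact stage_primeTo hS hE hN' hlt.le hn' hc hA

end Cfsg.Agent.Lib.FS.PSolvableRed
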